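import Cfsg.Agent.Lib.Cert.ON.T7.A

set_option autoImplicit false
set_option maxRecDepth 100000

namespace Cfsg.Agent.Ct.ON.L7

open Cfsg.Agent.PC

theorem r12000 : Nat.beq (rng row (nat_lit 12000) (nat_lit 2000)) (nat_lit 0) = true := by decide +kernel
theorem r14000 : Nat.beq (rng row (nat_lit 14000) (nat_lit 2000)) (nat_lit 0) = true := by decide +kernel
theorem r16000 : Nat.beq (rng row (nat_lit 16000) (nat_lit 2000)) (nat_lit 0) = true := by decide +kernel
theorem r18000 : Nat.beq (rng row (nat_lit 18000) (nat_lit 2000)) (nat_lit 0) = true := by decide +kernel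
theorem r20000 : Nat.beq (rng row (nat_lit 20000) (nat_lit 2000)) (nat_lit 0) = true := by decide +kernel
theorem r22000 : Nat.beq (rng row (nat_lit 22000) (nat_lit 2000)) (nat_lit 0) = true := by decide +kernel

end Cfsg.Agent.Ct.ON.L7
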