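import Cfsg.Agent.Lib.Cert.ON.T7.A

set_option autoImplicit false
set_option maxRecDepth 100000

namespace Cfsg.Agent.Ct.ON.L7

open Cfsg.Agent.PC

theorem a160000 : Nat.beq (rng aux (nat_lit 160000) (nat_lit 4000)) (nat_lit 0) = true := by decide +kernel
theorem a164000 : Nat.beq (rng aux (nat_lit 164000) (nat_lit 4000)) (nat_lit 0) = true := by decide +kernel
theorem a168000 : Nat.beq (rng aux (nat_lit 168000) (nat_lit 4000)) (nat_lit 0) = true := by decide +kernel
theorem a172000 : Nat.beq (rng aux (nat_lit 172000) (nat_lit 4000)) (nat_lit 0) = true := by decide +kernel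
theorem a176000 : Nat.beq (rng aux (nat_lit 176000) (nat_lit 4000)) (nat_lit 0) = true := by decide +kernel
theorem a180000 : Nat.beq (rng aux (nat_lit 180000) (nat_lit 4000)) (nat_lit 0) = true := by decide +kernel

end Cfsg.Agent.Ct.ON.L7
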