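import Cfsg.Agent.Lib.Cert.ON.T7.R0
import Cfsg.Agent.Lib.Cert.ON.T7.R1
import Cfsg.Agent.Lib.Cert.ON.T7.R2
import Cfsg.Agent.Lib.Cert.ON.T7.R3
import Cfsg.Agent.Lib.Cert.ON.T7.R4
import Cfsg.Agent.Lib.Cert.ON.T7.R5
import Cfsg.Agent.Lib.Cert.ON.T7.R6
import Cfsg.Agent.Lib.Cert.ON.T7.R7
import Cfsg.Agent.Lib.Cert.ON.T7.R8
import Cfsg.Agent.Lib.Cert.ON.T7.R9
import Cfsg.Agent.Lib.Cert.ON.T7.R10
import Cfsg.Agent.Lib.Cert.ON.T7.R11
import Cfsg.Agent.Lib.Cert.ON.T7.R12
import Cfsg.Agent.Lib.Cert.ON.T7.R13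
import Cfsg.Agent.Lib.Cert.ON.T7.R14
import Cfsg.Agent.Lib.Cert.ON.T7.R15
import Cfsg.Agent.Lib.Cert.ON.T7.R16
import Cfsg.Agent.Lib.Cert.ON.T7.R17
import Cfsg.Agent.Lib.Cert.ON.T7.R18
import Cfsg.Agent.Lib.Cert.ON.T7.R19
import Cfsg.Agent.Lib.Cert.ON.T7.R20
import Cfsg.Agent.Lib.Cert.ON.T7.R21

set_option autoImplicit false
set_option maxRecDepth 100000

namespace Cfsg.Agent.Ct.ON.L7

open Cfsg.Agent.PC

theorem rows : ∀ i < 122760, row i = 0 := by
  have h := zero_lt_zero row
  have h := zero_lt_add (a := (nat_lit 0)) (n := (nat_lit 2000)) (b := (nat_lit 2000)) h r0 rfl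
  have h := zero_lt_add (a := (nat_lit 2000)) (n := (nat_lit 2000)) (b := (nat_lit 4000)) h r2000 rfl
  have h := zero_lt_add (a := (nat_lit 4000)) (n := (nat_lit 2000)) (b := (nat_lit 6000)) h r4000 rfl
  have h := zero_lt_add (a := (nat_lit 6000)) (n := (nat_lit 2000)) (b := (nat_lit 8000)) h r6000 rfl
  have h := zero_lt_add (a := (nat_lit 8000)) (n := (nat_lit 2000)) (b := (nat_lit 10000)) h r8000 rfl
  have h := zero_lt_add (a := (nat_lit 10000)) (n := (nat_lit 2000)) (b := (nat_lit 12000)) h r10000 rfl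
  have h := zero_lt_add (a := (nat_lit 12000)) (n := (nat_lit 2000)) (b := (nat_lit 14000)) h r12000 rfl
  have h := zero_lt_add (a := (nat_lit 14000)) (n := (nat_lit 2000)) (b := (nat_lit 16000)) h r14000 rfl
  have h := zero_lt_add (a := (nat_lit 16000)) (n := (nat_lit 2000)) (b := (nat_lit 18000)) h r16000 rfl
  have h := zero_lt_add (a := (nat_lit 18000)) (n := (nat_lit 2000)) (b := (nat_lit 20000)) h r18000 rfl
  have h := zero_lt_add (a := (nat_lit 20000)) (n := (nat_lit 2000)) (b := (nat_lit 22000)) h r20000 rfl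
  have h := zero_lt_add (a := (nat_lit 22000)) (n := (nat_lit 2000)) (b := (nat_lit 24000)) h r22000 rfl
  have h := zero_lt_add (a := (nat_lit 24000)) (n := (nat_lit 2000)) (b := (nat_lit 26000)) h r24000 rfl
  have h := zero_lt_add (a := (nat_lit 26000)) (n := (nat_lit 2000)) (b := (nat_lit 28000)) h r26000 rfl
  have h := zero_lt_add (a := (nat_lit 28000)) (n := (nat_lit 2000)) (b := (nat_lit 30000)) h r28000 rfl
  have h := zero_lt_add (a := (nat_lit 30000)) (n := (nat_lit 2000)) (b := (nat_lit 32000)) h r30000 rfl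
  have h := zero_lt_add (a := (nat_lit 32000)) (n := (nat_lit 2000)) (b := (nat_lit 34000)) h r32000 rfl
  have h := zero_lt_add (a := (nat_lit 34000)) (n := (nat_lit 2000)) (b := (nat_lit 36000)) h r34000 rfl
  have h := zero_lt_add (a := (nat_lit 36000)) (n := (nat_lit 2000)) (b := (nat_lit 38000)) h r36000 rfl
  have h := zero_lt_add (a := (nat_lit 38000)) (n := (nat_lit 2000)) (b := (nat_lit 40000)) h r38000 rfl
  have h := zero_lt_add (a := (nat_lit 40000)) (n := (nat_lit 2000)) (b := (nat_lit 42000)) h r40000 rfl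
  have h := zero_lt_add (a := (nat_lit 42000)) (n := (nat_lit 2000)) (b := (nat_lit 44000)) h r42000 rfl
  have h := zero_lt_add (a := (nat_lit 44000)) (n := (nat_lit 2000)) (b := (nat_lit 46000)) h r44000 rfl
  have h := zero_lt_add (a := (nat_lit 46000)) (n := (nat_lit 2000)) (b := (nat_lit 48000)) h r46000 rfl
  have h := zero_lt_add (a := (nat_lit 48000)) (n := (nat_lit 2000)) (b := (nat_lit 50000)) h r48000 rfl
  have h := zero_lt_add (a := (nat_lit 50000)) (n := (nat_lit 2000)) (b := (nat_lit 52000)) h r50000 rfl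
  have h := zero_lt_add (a := (nat_lit 52000)) (n := (nat_lit 2000)) (b := (nat_lit 54000)) h r52000 rfl
  have h := zero_lt_add (a := (nat_lit 54000)) (n := (nat_lit 2000)) (b := (nat_lit 56000)) h r54000 rfl
  have h := zero_lt_add (a := (nat_lit 56000)) (n := (nat_lit 2000)) (b := (nat_lit 58000)) h r56000 rfl
  have h := zero_lt_add (a := (nat_lit 58000)) (n := (nat_lit 2000)) (b := (nat_lit 60000)) h r58000 rfl
  have h := zero_lt_add (a := (nat_lit 60000)) (n := (nat_lit 2000)) (b := (nat_lit 62000)) h r60000 rfl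
  have h := zero_lt_add (a := (nat_lit 62000)) (n := (nat_lit 2000)) (b := (nat_lit 64000)) h r62000 rfl
  have h := zero_lt_add (a := (nat_lit 64000)) (n := (nat_lit 2000)) (b := (nat_lit 66000)) h r64000 rfl
  have h := zero_lt_add (a := (nat_lit 66000)) (n := (nat_lit 2000)) (b := (nat_lit 68000)) h r66000 rfl
  have h := zero_lt_add (a := (nat_lit 68000)) (n := (nat_lit 2000)) (b := (nat_lit 70000)) h r68000 rfl
  have h := zero_lt_add (a := (nat_lit 70000)) (n := (nat_lit 2000)) (b := (nat_lit 72000)) h r70000 rfl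
  have h := zero_lt_add (a := (nat_lit 72000)) (n := (nat_lit 2000)) (b := (nat_lit 74000)) h r72000 rfl
  have h := zero_lt_add (a := (nat_lit 74000)) (n := (nat_lit 2000)) (b := (nat_lit 76000)) h r74000 rfl
  have h := zero_lt_add (a := (nat_lit 76000)) (n := (nat_lit 2000)) (b := (nat_lit 78000)) h r76000 rfl
  have h := zero_lt_add (a := (nat_lit 78000)) (n := (nat_lit 2000)) (b := (nat_lit 80000)) h r78000 rfl
  have h := zero_lt_add (a := (nat_lit 80000)) (n := (nat_lit 2000)) (b := (nat_lit 82000)) h r80000 rfl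
  have h := zero_lt_add (a := (nat_lit 82000)) (n := (nat_lit 2000)) (b := (nat_lit 84000)) h r82000 rfl
  have h := zero_lt_add (a := (nat_lit 84000)) (n := (nat_lit 2000)) (b := (nat_lit 86000)) h r84000 rfl
  have h := zero_lt_add (a := (nat_lit 86000)) (n := (nat_lit 2000)) (b := (nat_lit 88000)) h r86000 rfl
  have h := zero_lt_add (a := (nat_lit 88000)) (n := (nat_lit 2000)) (b := (nat_lit 90000)) h r88000 rfl
  have h := zero_lt_add (a := (nat_lit 90000)) (n := (nat_lit 2000)) (b := (nat_lit 92000)) h r90000 rfl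
  have h := zero_lt_add (a := (nat_lit 92000)) (n := (nat_lit 2000)) (b := (nat_lit 94000)) h r92000 rfl
  have h := zero_lt_add (a := (nat_lit 94000)) (n := (nat_lit 2000)) (b := (nat_lit 96000)) h r94000 rfl
  have h := zero_lt_add (a := (nat_lit 96000)) (n := (nat_lit 2000)) (b := (nat_lit 98000)) h r96000 rfl
  have h := zero_lt_add (a := (nat_lit 98000)) (n := (nat_lit 2000)) (b := (nat_lit 100000)) h r98000 rfl
  have h := zero_lt_add (a := (nat_lit 100000)) (n := (nat_lit 2000)) (b := (nat_lit 102000)) h r100000 rfl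
  have h := zero_lt_add (a := (nat_lit 102000)) (n := (nat_lit 2000)) (b := (nat_lit 104000)) h r102000 rfl
  have h := zero_lt_add (a := (nat_lit 104000)) (n := (nat_lit 2000)) (b := (nat_lit 106000)) h r104000 rfl
  have h := zero_lt_add (a := (nat_lit 106000)) (n := (nat_lit 2000)) (b := (nat_lit 108000)) h r106000 rfl
  have h := zero_lt_add (a := (nat_lit 108000)) (n := (nat_lit 2000)) (b := (nat_lit 110000)) h r108000 rfl
  have h := zero_lt_add (a := (nat_lit 110000)) (n := (nat_lit 2000)) (b := (nat_lit 112000)) h r110000 rfl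
  have h := zero_lt_add (a := (nat_lit 112000)) (n := (nat_lit 2000)) (b := (nat_lit 114000)) h r112000 rfl
  have h := zero_lt_add (a := (nat_lit 114000)) (n := (nat_lit 2000)) (b := (nat_lit 116000)) h r114000 rfl
  have h := zero_lt_add (a := (nat_lit 116000)) (n := (nat_lit 2000)) (b := (nat_lit 118000)) h r116000 rfl
  have h := zero_lt_add (a := (nat_lit 118000)) (n := (nat_lit 2000)) (b := (nat_lit 120000)) h r118000 rfl
  have h := zero_lt_add (a := (nat_lit 120000)) (n := (nat_lit 2000)) (b := (nat_lit 122000)) h r120000 rfl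
  have h := zero_lt_add (a := (nat_lit 122000)) (n := (nat_lit 760)) (b := (nat_lit 122760)) h r122000 rfl
  exact h
theorem auxs : ∀ i < 265740, aux i = 0 := by
  have h := zero_lt_zero aux
  have h := zero_lt_add (a := (nat_lit 0)) (n := (nat_lit 4000)) (b := (nat_lit 4000)) h a0 rfl
  have h := zero_lt_add (a := (nat_lit 4000)) (n := (nat_lit 4000)) (b := (nat_lit 8000)) h a4000 rfl
  have h := zero_lt_add (a := (nat_lit 8000)) (n := (nat_lit 4000)) (b := (nat_lit 12000)) h a8000 rfl
  have h := zero_lt_add (a := (nat_lit 12000)) (n := (nat_lit 4000)) (b := (nat_lit 16000)) h a12000 rfl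
  have h := zero_lt_add (a := (nat_lit 16000)) (n := (nat_lit 4000)) (b := (nat_lit 20000)) h a16000 rfl
  have h := zero_lt_add (a := (nat_lit 20000)) (n := (nat_lit 4000)) (b := (nat_lit 24000)) h a20000 rfl
  have h := zero_lt_add (a := (nat_lit 24000)) (n := (nat_lit 4000)) (b := (nat_lit 28000)) h a24000 rfl
  have h := zero_lt_add (a := (nat_lit 28000)) (n := (nat_lit 4000)) (b := (nat_lit 32000)) h a28000 rfl
  have h := zero_lt_add (a := (nat_lit 32000)) (n := (nat_lit 4000)) (b := (nat_lit 36000)) h a32000 rfl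
  have h := zero_lt_add (a := (nat_lit 36000)) (n := (nat_lit 4000)) (b := (nat_lit 40000)) h a36000 rfl
  have h := zero_lt_add (a := (nat_lit 40000)) (n := (nat_lit 4000)) (b := (nat_lit 44000)) h a40000 rfl
  have h := zero_lt_add (a := (nat_lit 44000)) (n := (nat_lit 4000)) (b := (nat_lit 48000)) h a44000 rfl
  have h := zero_lt_add (a := (nat_lit 48000)) (n := (nat_lit 4000)) (b := (nat_lit 52000)) h a48000 rfl
  have h := zero_lt_add (a := (nat_lit 52000)) (n := (nat_lit 4000)) (b := (nat_lit 56000)) h a52000 rfl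
  have h := zero_lt_add (a := (nat_lit 56000)) (n := (nat_lit 4000)) (b := (nat_lit 60000)) h a56000 rfl
  have h := zero_lt_add (a := (nat_lit 60000)) (n := (nat_lit 4000)) (b := (nat_lit 64000)) h a60000 rfl
  have h := zero_lt_add (a := (nat_lit 64000)) (n := (nat_lit 4000)) (b := (nat_lit 68000)) h a64000 rfl
  have h := zero_lt_add (a := (nat_lit 68000)) (n := (nat_lit 4000)) (b := (nat_lit 72000)) h a68000 rfl
  have h := zero_lt_add (a := (nat_lit 72000)) (n := (nat_lit 4000)) (b := (nat_lit 76000)) h a72000 rfl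
  have h := zero_lt_add (a := (nat_lit 76000)) (n := (nat_lit 4000)) (b := (nat_lit 80000)) h a76000 rfl
  have h := zero_lt_add (a := (nat_lit 80000)) (n := (nat_lit 4000)) (b := (nat_lit 84000)) h a80000 rfl
  have h := zero_lt_add (a := (nat_lit 84000)) (n := (nat_lit 4000)) (b := (nat_lit 88000)) h a84000 rfl
  have h := zero_lt_add (a := (nat_lit 88000)) (n := (nat_lit 4000)) (b := (nat_lit 92000)) h a88000 rfl
  have h := zero_lt_add (a := (nat_lit 92000)) (n := (nat_lit 4000)) (b := (nat_lit 96000)) h a92000 rfl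
  have h := zero_lt_add (a := (nat_lit 96000)) (n := (nat_lit 4000)) (b := (nat_lit 100000)) h a96000 rfl
  have h := zero_lt_add (a := (nat_lit 100000)) (n := (nat_lit 4000)) (b := (nat_lit 104000)) h a100000 rfl
  have h := zero_lt_add (a := (nat_lit 104000)) (n := (nat_lit 4000)) (b := (nat_lit 108000)) h a104000 rfl
  have h := zero_lt_add (a := (nat_lit 108000)) (n := (nat_lit 4000)) (b := (nat_lit 112000)) h a108000 rfl
  have h := zero_lt_add (a := (nat_lit 112000)) (n := (nat_lit 4000)) (b := (nat_lit 116000)) h a112000 rfl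
  have h := zero_lt_add (a := (nat_lit 116000)) (n := (nat_lit 4000)) (b := (nat_lit 120000)) h a116000 rfl
  have h := zero_lt_add (a := (nat_lit 120000)) (n := (nat_lit 4000)) (b := (nat_lit 124000)) h a120000 rfl
  have h := zero_lt_add (a := (nat_lit 124000)) (n := (nat_lit 4000)) (b := (nat_lit 128000)) h a124000 rfl
  have h := zero_lt_add (a := (nat_lit 128000)) (n := (nat_lit 4000)) (b := (nat_lit 132000)) h a128000 rfl
  have h := zero_lt_add (a := (nat_lit 132000)) (n := (nat_lit 4000)) (b := (nat_lit 136000)) h a132000 rfl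
  have h := zero_lt_add (a := (nat_lit 136000)) (n := (nat_lit 4000)) (b := (nat_lit 140000)) h a136000 rfl
  have h := zero_lt_add (a := (nat_lit 140000)) (n := (nat_lit 4000)) (b := (nat_lit 144000)) h a140000 rfl
  have h := zero_lt_add (a := (nat_lit 144000)) (n := (nat_lit 4000)) (b := (nat_lit 148000)) h a144000 rfl
  have h := zero_lt_add (a := (nat_lit 148000)) (n := (nat_lit 4000)) (b := (nat_lit 152000)) h a148000 rfl
  have h := zero_lt_add (a := (nat_lit 152000)) (n := (nat_lit 4000)) (b := (nat_lit 156000)) h a152000 rfl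
  have h := zero_lt_add (a := (nat_lit 156000)) (n := (nat_lit 4000)) (b := (nat_lit 160000)) h a156000 rfl
  have h := zero_lt_add (a := (nat_lit 160000)) (n := (nat_lit 4000)) (b := (nat_lit 164000)) h a160000 rfl
  have h := zero_lt_add (a := (nat_lit 164000)) (n := (nat_lit 4000)) (b := (nat_lit 168000)) h a164000 rfl
  have h := zero_lt_add (a := (nat_lit 168000)) (n := (nat_lit 4000)) (b := (nat_lit 172000)) h a168000 rfl
  have h := zero_lt_add (a := (nat_lit 172000)) (n := (nat_lit 4000)) (b := (nat_lit 176000)) h a172000 rfl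
  have h := zero_lt_add (a := (nat_lit 176000)) (n := (nat_lit 4000)) (b := (nat_lit 180000)) h a176000 rfl
  have h := zero_lt_add (a := (nat_lit 180000)) (n := (nat_lit 4000)) (b := (nat_lit 184000)) h a180000 rfl
  have h := zero_lt_add (a := (nat_lit 184000)) (n := (nat_lit 4000)) (b := (nat_lit 188000)) h a184000 rfl
  have h := zero_lt_add (a := (nat_lit 188000)) (n := (nat_lit 4000)) (b := (nat_lit 192000)) h a188000 rfl
  have h := zero_lt_add (a := (nat_lit 192000)) (n := (nat_lit 4000)) (b := (nat_lit 196000)) h a192000 rfl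
  have h := zero_lt_add (a := (nat_lit 196000)) (n := (nat_lit 4000)) (b := (nat_lit 200000)) h a196000 rfl
  have h := zero_lt_add (a := (nat_lit 200000)) (n := (nat_lit 4000)) (b := (nat_lit 204000)) h a200000 rfl
  have h := zero_lt_add (a := (nat_lit 204000)) (n := (nat_lit 4000)) (b := (nat_lit 208000)) h a204000 rfl
  have h := zero_lt_add (a := (nat_lit 208000)) (n := (nat_lit 4000)) (b := (nat_lit 212000)) h a208000 rfl
  have h := zero_lt_add (a := (nat_lit 212000)) (n := (nat_lit 4000)) (b := (nat_lit 216000)) h a212000 rfl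
  have h := zero_lt_add (a := (nat_lit 216000)) (n := (nat_lit 4000)) (b := (nat_lit 220000)) h a216000 rfl
  have h := zero_lt_add (a := (nat_lit 220000)) (n := (nat_lit 4000)) (b := (nat_lit 224000)) h a220000 rfl
  have h := zero_lt_add (a := (nat_lit 224000)) (n := (nat_lit 4000)) (b := (nat_lit 228000)) h a224000 rfl
  have h := zero_lt_add (a := (nat_lit 228000)) (n := (nat_lit 4000)) (b := (nat_lit 232000)) h a228000 rfl
  have h := zero_lt_add (a := (nat_lit 232000)) (n := (nat_lit 4000)) (b := (nat_lit 236000)) h a232000 rfl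
  have h := zero_lt_add (a := (nat_lit 236000)) (n := (nat_lit 4000)) (b := (nat_lit 240000)) h a236000 rfl
  have h := zero_lt_add (a := (nat_lit 240000)) (n := (nat_lit 4000)) (b := (nat_lit 244000)) h a240000 rfl
  have h := zero_lt_add (a := (nat_lit 244000)) (n := (nat_lit 4000)) (b := (nat_lit 248000)) h a244000 rfl
  have h := zero_lt_add (a := (nat_lit 248000)) (n := (nat_lit 4000)) (b := (nat_lit 252000)) h a248000 rfl
  have h := zero_lt_add (a := (nat_lit 252000)) (n := (nat_lit 4000)) (b := (nat_lit 256000)) h a252000 rfl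
  have h := zero_lt_add (a := (nat_lit 256000)) (n := (nat_lit 4000)) (b := (nat_lit 260000)) h a256000 rfl
  have h := zero_lt_add (a := (nat_lit 260000)) (n := (nat_lit 4000)) (b := (nat_lit 264000)) h a260000 rfl
  have h := zero_lt_add (a := (nat_lit 264000)) (n := (nat_lit 1740)) (b := (nat_lit 265740)) h a264000 rfl
  exact h
theorem closes.{u} : ClosesT.{u} inv rels 8 6 122760 T :=
  hc_closes (N1 := (nat_lit 122759)) rfl T_eq (by decide +kernel) rows auxs
theorem T_inv : ∀ c < 122760, ∀ j < 8, T j c < 122760 ∧ T (inv j) (T j c) = c := 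
  hc_inv (inv := inv) (N1 := (nat_lit 122759)) rfl T_eq rows

end Cfsg.Agent.Ct.ON.L7
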