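import Cfsg.Agent.Lib.Cert.ON.T7.A

set_option autoImplicit false
set_option maxRecDepth 100000

namespace Cfsg.Agent.Ct.ON.L7

open Cfsg.Agent.PC

theorem a64000 : Nat.beq (rng aux (nat_lit 64000) (nat_lit 4000)) (nat_lit 0) = true := by decide +kernel
theorem a68000 : Nat.beq (rng aux (nat_lit 68000) (nat_lit 4000)) (nat_lit 0) = true := by decide +kernel
theorem a72000 : Nat.beq (rng aux (nat_lit 72000) (nat_lit 4000)) (nat_lit 0) = true := by decide +kernel
theorem a76000 : Nat.beq (rng aux (nat_lit 76000) (nat_lit 4000)) (nat_lit 0) = true := by decide +kernel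
theorem a80000 : Nat.beq (rng aux (nat_lit 80000) (nat_lit 4000)) (nat_lit 0) = true := by decide +kernel
theorem a84000 : Nat.beq (rng aux (nat_lit 84000) (nat_lit 4000)) (nat_lit 0) = true := by decide +kernel

end Cfsg.Agent.Ct.ON.L7
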